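import Mathlib
import Cfsg.Prelude.Def_Characters
import Cfsg.Prelude.Def_Blocks
import Cfsg.Agent.Characters.Core
import Cfsg.Agent.Characters.Values
import Cfsg.Agent.Characters.Central
import Cfsg.Agent.H686.CharKit
import Cfsg.Agent.MTwelve.SmallDegree

/-!
# Central extensions by a group of prime order `r` (helper932, S4844 PS-11b)

`f : K →* Q` surjective with central kernel of prime order `r`.

* `exists_lift`: an element `c`, `c ^ n = 1`, `n` prime to `r`, lifts to `x` with `x ^ n = 1`;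
* `isConj_of_map`: for such elements `IsConj (f x) (f y) → IsConj x y`;
* `card_centralizer`: `|C_K(x)| = r * |C_Q(f x)|`;
* `sum_over`, `sum_over_zero`: column orthogonality for the characters over a faithful character of the kernel.
-/

set_option autoImplicit false
set_option linter.unusedSectionVars false

open Cfsg Subgroup Cfsg.Agent.Characters.Core
open scoped ComplexConjugate

namespace Cfsg.Agent.H932.PS11

universe u v

section Grp

variable {K : Type u} [Group K] {Q : Type v} [Group Q] {f : K →* Q} {r : ℕ}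

theorem pow_r_eq_one (hcard : Nat.card f.ker = r) {z : K} (hz : z ∈ f.ker) : z ^ r = 1 := by
  have h1 : (⟨z, hz⟩ : f.ker) ^ Nat.card f.ker = 1 := pow_card_eq_one'
  rw [hcard] at h1
  exact congrArg Subtype.val h1

theorem eq_one_of_coprime (hcard : Nat.card f.ker = r) {z : K} (hz : z ∈ f.ker) {n : ℕ} (hn : n.Coprime r)
    (h : z ^ n = 1) : z = 1 := by
  have h1 := pow_r_eq_one hcard hz
  have h2 : orderOf z ∣ Nat.gcd n r := Nat.dvd_gcd (orderOf_dvd_of_pow_eq_one h) (orderOf_dvd_of_pow_eq_one h1)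
  rw [hn] at h2
  exact orderOf_eq_one_iff.1 (Nat.dvd_one.1 h2)

theorem exists_lift (hf : Function.Surjective f) (hcard : Nat.card f.ker = r) {n : ℕ} (hn : n.Coprime r) {c : Q}
    (hc : c ^ n = 1) : ∃ x : K, f x = c ∧ x ^ n = 1 := by
  obtain ⟨y, hy⟩ := hf c
  obtain ⟨m, hm1, hm2⟩ := Nat.chineseRemainder hn 1 0
  have hmr : r ∣ m := (Nat.modEq_zero_iff_dvd).1 hm2
  obtain ⟨k, rfl⟩ := hmr
  refine ⟨y ^ (r * k), ?_, ?_⟩
  · rw [map_pow, hy]
    have h1 : c ^ (r * k) = c ^ 1 := pow_eq_pow_iff_modEq.2 (hm1.of_dvd (orderOf_dvd_of_pow_eq_one hc))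
    rw [h1, pow_one]
  · have h2 : y ^ n ∈ f.ker := by rw [MonoidHom.mem_ker, map_pow, hy, hc]
    rw [← pow_mul, show r * k * n = n * r * k by ring, pow_mul, pow_mul, pow_r_eq_one hcard h2, one_pow]

/-- A central element `z` of the kernel with `g x g⁻¹ = y z` is trivial. -/
theorem conj_eq (hc : f.ker ≤ center K) (hcard : Nat.card f.ker = r) {n : ℕ} (hn : n.Coprime r) {x y g : K}
    (hx : x ^ n = 1) (hy : y ^ n = 1) (h : f (g * x * g⁻¹) = f y) : g * x * g⁻¹ = y := by
  have h1 : y⁻¹ * (g * x * g⁻¹) ∈ f.ker := by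
    rw [MonoidHom.mem_ker, map_mul, map_inv, h, inv_mul_cancel]
  obtain ⟨z, hz⟩ : ∃ z, z = y⁻¹ * (g * x * g⁻¹) := ⟨_, rfl⟩
  rw [← hz] at h1
  have h2 : g * x * g⁻¹ = y * z := by rw [hz, mul_inv_cancel_left]
  have hzc : ∀ a : K, a * z = z * a := fun a => Subgroup.mem_center_iff.1 (hc h1) a
  have h3 : (y * z) ^ n = y ^ n * z ^ n := (show Commute y z from hzc y).mul_pow n
  rw [← h2, conj_pow, hx, mul_one, mul_inv_cancel, hy, one_mul] at h3
  rw [h2, eq_one_of_coprime hcard h1 hn h3.symm, mul_one]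

theorem isConj_of_map (hf : Function.Surjective f) (hc : f.ker ≤ center K) (hcard : Nat.card f.ker = r) {n : ℕ}
    (hn : n.Coprime r) {x y : K} (hx : x ^ n = 1) (hy : y ^ n = 1) (h : IsConj (f x) (f y)) : IsConj x y := by
  obtain ⟨q, hq⟩ := isConj_iff.1 h
  obtain ⟨g, rfl⟩ := hf q
  refine isConj_iff.2 ⟨g, conj_eq hc hcard hn hx hy ?_⟩
  rw [map_mul, map_mul, map_inv, hq]

theorem card_centralizer [Finite K] (hf : Function.Surjective f) (hc : f.ker ≤ center K) (hcard : Nat.card f.ker = r)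
    {n : ℕ} (hn : n.Coprime r) {x : K} (hx : x ^ n = 1) :
    Nat.card (centralizer ({x} : Set K)) = r * Nat.card (centralizer ({f x} : Set Q)) := by
  have h0 : (centralizer ({x} : Set K)) = (centralizer ({f x} : Set Q)).comap f := by
    ext g
    rw [Subgroup.mem_comap, mem_centralizer_singleton_iff, mem_centralizer_singleton_iff]
    constructor
    · intro h
      rw [← map_mul, h, map_mul]
    · intro h
      have h1 : g * x * g⁻¹ = x := by
        refine conj_eq hc hcard hn hx hx ?_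
        rw [map_mul, map_mul, map_inv, h, mul_inv_cancel_right]
      rw [mul_inv_eq_iff_eq_mul] at h1
      exact h1
  rw [h0, ← hcard]
  have h2 := Subgroup.card_mul_index ((f.ker).subgroupOf ((centralizer ({f x} : Set Q)).comap f))
  have h3 : f.ker ≤ (centralizer ({f x} : Set Q)).comap f := by
    intro z hz
    rw [Subgroup.mem_comap, (MonoidHom.mem_ker).1 hz]
    exact one_mem _
  have h4 : Nat.card ((f.ker).subgroupOf ((centralizer ({f x} : Set Q)).comap f)) = Nat.card f.ker :=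
    Nat.card_congr (Subgroup.subgroupOfEquivOfLe h3).toEquiv
  have h5 : ((f.ker).subgroupOf ((centralizer ({f x} : Set Q)).comap f)).index =
      Nat.card (centralizer ({f x} : Set Q)) := by
    have h6 : (f.ker).subgroupOf ((centralizer ({f x} : Set Q)).comap f) =
        (f.comp ((centralizer ({f x} : Set Q)).comap f).subtype).ker := by
      ext g
      rw [Subgroup.mem_subgroupOf, MonoidHom.mem_ker, MonoidHom.mem_ker, MonoidHom.comp_apply]
      rfl
    rw [h6, Subgroup.index_ker]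
    have h7 : (f.comp ((centralizer ({f x} : Set Q)).comap f).subtype).range = centralizer ({f x} : Set Q) := by
      ext q
      constructor
      · rintro ⟨g, rfl⟩
        exact g.2
      · intro hq
        obtain ⟨g, rfl⟩ := hf q
        exact ⟨⟨g, hq⟩, rfl⟩
    rw [h7]
  rw [← h2, h4, h5]

end Grp

section Orth

variable {K : Type u} [Group K] [Finite K] {Q : Type v} [Group Q] {f : K →* Q}

/-- Action of a central element on an irreducible character. -/
theorem central_mul {χ : K → ℂ} (hχ : IsIrrCharacter K χ) {z : K} (hz : z ∈ center K) :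
    ∃ c : ℂ, ∀ g, χ (z * g) = c * χ g := by
  obtain ⟨n, ρ, hρ, rfl⟩ := hχ
  obtain ⟨c, hc⟩ := Cfsg.Agent.Characters.Central.exists_smul_of_comm ρ hρ (ρ z) fun g => by
    rw [← map_mul, ← map_mul, Subgroup.mem_center_iff.1 hz g]
  refine ⟨c, fun g => ?_⟩
  show LinearMap.trace ℂ _ (ρ (z * g)) = c * LinearMap.trace ℂ _ (ρ g)
  rw [map_mul, hc, smul_mul_assoc, one_mul, map_smul, smul_eq_mul]

/-- The irreducible character `χ` lies over the character `z ↦ ω` of `⟨z⟩`. -/
def Ov (z : K) (ω : ℂ) (χ : K → ℂ) : Prop := χ z = ω * χ 1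

theorem central_pow {χ : K → ℂ} {z : K} {c : ℂ} (h : ∀ g, χ (z * g) = c * χ g) (j : ℕ) (g : K) :
    χ (z ^ j * g) = c ^ j * χ g := by
  induction j with
  | zero => simp
  | succ j ih => rw [pow_succ', mul_assoc, h, ih, pow_succ']; ring

open scoped Classical in
theorem avg_eq {r : ℕ} {z : K} (hzc : z ∈ center K) (hz : z ^ r = 1) {ω : ℂ} (hω : IsPrimitiveRoot ω r) (hr : r ≠ 0)
    {χ : K → ℂ} (hχ : IsIrrCharacter K χ) (g : K) :
    ∑ j ∈ Finset.range r, (ω ^ j)⁻¹ * χ (z ^ j * g) = if Ov z ω χ then (r : ℂ) * χ g else 0 := by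
  obtain ⟨c, hc⟩ := central_mul hχ hzc
  have h1 : χ 1 ≠ 0 := isIrr_apply_one_ne_zero hχ
  have hcr : c ^ r = 1 := by
    have h2 := central_pow hc r 1
    rw [hz, mul_one] at h2
    exact mul_right_cancel₀ h1 (by rw [one_mul]; exact h2.symm)
  have hω0 : ω ≠ 0 := hω.ne_zero hr
  have hcz : χ z = c * χ 1 := by rw [← hc 1, mul_one]
  have h2 : ∀ j ∈ Finset.range r, (ω ^ j)⁻¹ * χ (z ^ j * g) = (c / ω) ^ j * χ g := by
    intro j _
    rw [central_pow hc, div_pow]
    ring
  rw [Finset.sum_congr rfl h2, ← Finset.sum_mul]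
  split_ifs with hov
  · have h3 : c = ω := mul_right_cancel₀ h1 (by rw [← hcz]; exact hov)
    rw [h3, div_self hω0]
    simp
  · have h3 : c / ω ≠ 1 := by
      intro h
      rw [div_eq_one_iff_eq hω0] at h
      exact hov (by rw [Ov, hcz, h])
    have h4 := mul_neg_geom_sum (c / ω) r
    rw [div_pow, hcr, hω.pow_eq_one, div_one, sub_self] at h4
    rcases mul_eq_zero.1 h4 with h5 | h5
    · exact absurd (sub_eq_zero.1 h5).symm h3
    · rw [h5, zero_mul]

open scoped Classical in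
theorem sum_over {r : ℕ} {z : K} (hzc : z ∈ center K) (hz : z ^ r = 1) {ω : ℂ} (hω : IsPrimitiveRoot ω r) (hr : r ≠ 0)
    [Fintype (IrrCharacter K)] (g h : K) :
    (r : ℂ) * ∑ χ ∈ (Finset.univ : Finset (IrrCharacter K)).filter (fun χ : IrrCharacter K => Ov z ω (χ : K → ℂ)),
      (χ : K → ℂ) g * conj ((χ : K → ℂ) h) =
      ∑ j ∈ Finset.range r, (ω ^ j)⁻¹ *
        (if IsConj (z ^ j * g) h then (Nat.card (centralizer ({h} : Set K)) : ℂ) else 0) := by
  have h1 : ∀ j, (if IsConj (z ^ j * g) h then (Nat.card (centralizer ({h} : Set K)) : ℂ) else 0) =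
      ∑ χ : IrrCharacter K, (χ : K → ℂ) (z ^ j * g) * conj ((χ : K → ℂ) h) := fun j =>
    (Cfsg.Agent.H686.CharKit.col_orth (z ^ j * g) h).symm
  have h2 : ∑ j ∈ Finset.range r, (ω ^ j)⁻¹ *
        (if IsConj (z ^ j * g) h then (Nat.card (centralizer ({h} : Set K)) : ℂ) else 0) =
      ∑ j ∈ Finset.range r, ∑ χ : IrrCharacter K,
        (ω ^ j)⁻¹ * ((χ : K → ℂ) (z ^ j * g) * conj ((χ : K → ℂ) h)) :=
    Finset.sum_congr rfl fun j _ => by rw [h1 j, Finset.mul_sum]
  rw [h2, Finset.sum_comm, Finset.sum_filter, Finset.mul_sum]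
  refine Finset.sum_congr rfl fun χ _ => ?_
  rw [Finset.sum_congr rfl fun j _ => (mul_assoc ((ω ^ j)⁻¹) ((χ : K → ℂ) (z ^ j * g)) _).symm, ← Finset.sum_mul,
    avg_eq hzc hz hω hr χ.2 g]
  split_ifs with hov
  · ring
  · simp

open scoped Classical in
/-- Orthogonality for elements with nonconjugate images. -/
theorem sum_over_zero {r : ℕ} {z : K} (hzc : z ∈ center K) (hz : z ^ r = 1) (hzk : z ∈ f.ker) {ω : ℂ}
    (hω : IsPrimitiveRoot ω r) (hr : r ≠ 0) [Fintype (IrrCharacter K)] {g h : K} (hgh : ¬ IsConj (f g) (f h)) :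
    ∑ χ ∈ (Finset.univ : Finset (IrrCharacter K)).filter (fun χ : IrrCharacter K => Ov z ω (χ : K → ℂ)),
      (χ : K → ℂ) g * conj ((χ : K → ℂ) h) = 0 := by
  have h1 := sum_over hzc hz hω hr g h
  have h2 : ∀ j, ¬ IsConj (z ^ j * g) h := by
    intro j hj
    have h3 := MonoidHom.map_isConj f hj
    rw [map_mul, map_pow, (MonoidHom.mem_ker).1 hzk, one_pow, one_mul] at h3
    exact hgh h3
  rw [Finset.sum_eq_zero (s := Finset.range r) fun j _ => by rw [if_neg (h2 j), mul_zero]] at h1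
  rcases mul_eq_zero.1 h1 with h | h
  · exact absurd (Nat.cast_eq_zero.1 h) hr
  · exact h

open scoped Classical in
/-- Orthogonality for one element of order prime to `r`. -/
theorem sum_over_self {r : ℕ} (hrp : r.Prime) (hf : Function.Surjective f) (hc : f.ker ≤ center K)
    (hcard : Nat.card f.ker = r) {z : K} (hzk : z ∈ f.ker) (hz1 : z ≠ 1) {ω : ℂ}
    (hω : IsPrimitiveRoot ω r) [Fintype (IrrCharacter K)] {n : ℕ} (hn : n.Coprime r) {g : K} (hg : g ^ n = 1) :
    ∑ χ ∈ (Finset.univ : Finset (IrrCharacter K)).filter (fun χ : IrrCharacter K => Ov z ω (χ : K → ℂ)),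
      Complex.normSq ((χ : K → ℂ) g) = (Nat.card (centralizer ({f g} : Set Q)) : ℝ) := by
  have hz := pow_r_eq_one hcard hzk
  have h1 := sum_over (hc hzk) hz hω hrp.ne_zero g g
  have : Fact r.Prime := ⟨hrp⟩
  have ho : orderOf z = r := orderOf_eq_prime hz hz1
  have h2 : ∀ j ∈ Finset.range r, j ≠ 0 → ¬ IsConj (z ^ j * g) g := by
    intro j hj hj0 hcon
    obtain ⟨k, hk⟩ := isConj_iff.1 hcon
    have hzg : Commute (z ^ j) g := Commute.pow_left (Subgroup.mem_center_iff.1 (hc hzk) g).symm j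
    have h3 : (z ^ j * g) ^ n = 1 := by
      have h4 : (k * (z ^ j * g) * k⁻¹) ^ n = 1 := by rw [hk, hg]
      rw [conj_pow, mul_inv_eq_one, mul_eq_left] at h4
      exact h4
    rw [hzg.mul_pow, hg, mul_one] at h3
    have h5 := eq_one_of_coprime hcard (pow_mem hzk j) hn h3
    have h6 := orderOf_dvd_of_pow_eq_one h5
    rw [ho] at h6
    exact absurd (Nat.le_of_dvd (Nat.pos_of_ne_zero hj0) h6) (not_le.2 (Finset.mem_range.1 hj))
  rw [Finset.sum_eq_single (s := Finset.range r) 0 (fun j hj hj0 => by rw [if_neg (h2 j hj hj0), mul_zero])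
    (fun h => absurd (Finset.mem_range.2 hrp.pos) h)] at h1
  rw [pow_zero, pow_zero, one_mul, if_pos (IsConj.refl _), inv_one, one_mul, card_centralizer hf hc hcard hn hg,
    Nat.cast_mul] at h1
  have hr0 : (r : ℂ) ≠ 0 := by exact_mod_cast hrp.ne_zero
  have h3 := mul_left_cancel₀ hr0 h1
  have h4 : ((∑ χ ∈ (Finset.univ : Finset (IrrCharacter K)).filter (fun χ : IrrCharacter K => Ov z ω (χ : K → ℂ)),
      Complex.normSq ((χ : K → ℂ) g) : ℝ) : ℂ) = (Nat.card (centralizer ({f g} : Set Q)) : ℂ) := by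
    rw [← h3, Complex.ofReal_sum]
    exact Finset.sum_congr rfl fun χ _ => by rw [Complex.mul_conj]
  exact_mod_cast h4

/-- In a perfect group the degrees over a faithful character of a central subgroup of order `r` are divisible by `r`. -/
theorem dvd_degree {r : ℕ} (hK : commutator K = ⊤) {z : K} (hzc : z ∈ center K) {ω : ℂ} (hω : IsPrimitiveRoot ω r)
    {χ : K → ℂ} (hχ : IsIrrCharacter K χ) (hov : Ov z ω χ) : r ∣ charDegree χ := by
  have h0 := Cfsg.Agent.H686.CharKit.charDegree_cast (isIrr_isCharacter hχ)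
  have h1 : χ 1 ≠ 0 := isIrr_apply_one_ne_zero hχ
  obtain ⟨n, ρ, hρ, rfl⟩ := hχ
  obtain ⟨c, hc⟩ := Cfsg.Agent.Characters.Central.exists_smul_of_comm ρ hρ (ρ z) fun g => by
    rw [← map_mul, ← map_mul, Subgroup.mem_center_iff.1 hzc g]
  have h2 : ρ.character z = c * ρ.character 1 := by
    show LinearMap.trace ℂ _ (ρ z) = c * LinearMap.trace ℂ _ (ρ 1)
    rw [map_one, hc, map_smul, smul_eq_mul]
  have h3 : c = ω := mul_right_cancel₀ h1 (by rw [← h2]; exact hov)
  have h4 := Cfsg.Agent.MTwelve.SmallDegree.det_eq_one hK ρ z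
  rw [hc, LinearMap.det_smul, map_one, mul_one, h3] at h4
  have h5 := hω.dvd_of_pow_eq_one _ h4
  have h6 : charDegree ρ.character = Module.finrank ℂ (Fin n → ℂ) := by
    rw [Representation.char_one] at h0
    exact_mod_cast h0
  rw [h6]
  exact h5

end Orth

end Cfsg.Agent.H932.PS11
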