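import Cfsg.Agent.H932.PS11.Asm
import Cfsg.Agent.H783.PSqTwo

/-!
# PS-11 of S4844 (helper932, helper783): a proper perfect central extension of `A₇` has an irreducible character of
degree divisible by four
-/

set_option autoImplicit false

open Cfsg Subgroup

namespace Cfsg.Agent.H932.PS11

universe u

theorem seven_central {K : Type u} [Group K] [Finite K] (hK : commutator K = ⊤) {V : Subgroup K}
    (hV : V ≤ center K) (hV1 : V ≠ ⊥) [V.Normal] (e : Nonempty (K ⧸ V ≃* alternatingGroup (Fin 7))) :
    H33.IM 4 K := by
  refine seven_central_of_two (fun K _ _ hK f hf hc hcard => ?_) hK hV hV1 e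
  exact Cfsg.Agent.H783.PSqTwo.seven_two_central hK hc hcard
    ⟨QuotientGroup.quotientKerEquivOfSurjective f hf⟩

end Cfsg.Agent.H932.PS11
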