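import Mathlib

/-!
# Elements of orders 2, 5, 7 of `A₇` (helper932, S4844 PS-11b)

`two`, `five`, `seven`: elements `t`, `c`, `d` of order 2, 5, 7 with centralizers of orders `24`, `5`, `7`; `c` is
conjugate to `c ^ 2` and `d` to `d ^ 2`.
-/

set_option autoImplicit false

namespace Cfsg.Agent.H932.PS11

open Subgroup

/-- `(0 1)(2 3)` -/
def t2 : Equiv.Perm (Fin 7) where
  toFun := ![1, 0, 3, 2, 4, 5, 6]
  invFun := ![1, 0, 3, 2, 4, 5, 6]
  left_inv := by decide
  right_inv := by decide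

/-- `(0 1 2 3 4)` -/
def c5 : Equiv.Perm (Fin 7) where
  toFun := ![1, 2, 3, 4, 0, 5, 6]
  invFun := ![4, 0, 1, 2, 3, 5, 6]
  left_inv := by decide
  right_inv := by decide

/-- conjugates `c5` to its square -/
def h5 : Equiv.Perm (Fin 7) where
  toFun := ![0, 2, 4, 1, 3, 6, 5]
  invFun := ![0, 3, 1, 4, 2, 6, 5]
  left_inv := by decide
  right_inv := by decide

/-- `(0 1 2 3 4 5 6)` -/
def c7 : Equiv.Perm (Fin 7) where
  toFun := ![1, 2, 3, 4, 5, 6, 0]
  invFun := ![6, 0, 1, 2, 3, 4, 5]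
  left_inv := by decide
  right_inv := by decide

/-- conjugates `c7` to its square -/
def h7 : Equiv.Perm (Fin 7) where
  toFun := ![0, 2, 4, 6, 1, 3, 5]
  invFun := ![0, 4, 1, 5, 2, 6, 3]
  left_inv := by decide
  right_inv := by decide

theorem sign_t2 : Equiv.Perm.sign t2 = 1 := by
  have h : t2 = Equiv.swap 0 1 * Equiv.swap 2 3 := by
    ext i
    fin_cases i <;> rfl
  rw [h]
  simp only [map_mul, Equiv.Perm.sign_swap']
  decide
theorem sign_c5 : Equiv.Perm.sign c5 = 1 := by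
  have h : c5 = Equiv.swap 0 1 * Equiv.swap 1 2 * Equiv.swap 2 3 * Equiv.swap 3 4 := by
    ext i
    fin_cases i <;> rfl
  rw [h]
  simp only [map_mul, Equiv.Perm.sign_swap']
  decide
theorem sign_h5 : Equiv.Perm.sign h5 = 1 := by
  have h : h5 = Equiv.swap 1 2 * Equiv.swap 2 4 * Equiv.swap 4 3 * Equiv.swap 5 6 := by
    ext i
    fin_cases i <;> rfl
  rw [h]
  simp only [map_mul, Equiv.Perm.sign_swap']
  decide
theorem sign_c7 : Equiv.Perm.sign c7 = 1 := by
  have h : c7 = Equiv.swap 0 1 * Equiv.swap 1 2 * Equiv.swap 2 3 * Equiv.swap 3 4 * Equiv.swap 4 5 * Equiv.swap 5 6 := by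
    ext i
    fin_cases i <;> rfl
  rw [h]
  simp only [map_mul, Equiv.Perm.sign_swap']
  decide
theorem sign_h7 : Equiv.Perm.sign h7 = 1 := by
  have h : h7 = Equiv.swap 1 2 * Equiv.swap 2 4 * Equiv.swap 3 6 * Equiv.swap 6 5 := by
    ext i
    fin_cases i <;> rfl
  rw [h]
  simp only [map_mul, Equiv.Perm.sign_swap']
  decide

theorem h5_conj : h5 * c5 * h5⁻¹ = c5 ^ 2 := by
  have h : ∀ i, h5 (c5 i) = c5 (c5 (h5 i)) := by decide
  rw [mul_inv_eq_iff_eq_mul, pow_two]
  exact Equiv.ext h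

theorem h7_conj : h7 * c7 * h7⁻¹ = c7 ^ 2 := by
  have h : ∀ i, h7 (c7 i) = c7 (c7 (h7 i)) := by decide
  rw [mul_inv_eq_iff_eq_mul, pow_two]
  exact Equiv.ext h

theorem t2_pow : t2 ^ 2 = 1 := by
  ext i
  fin_cases i <;> rfl

theorem c5_pow : c5 ^ 5 = 1 := by
  ext i
  fin_cases i <;> rfl

theorem c7_pow : c7 ^ 7 = 1 := by
  ext i
  fin_cases i <;> rfl

theorem cycleType_t2 : t2.cycleType = {2, 2} := by
  have h : t2 = Equiv.swap 0 1 * Equiv.swap 2 3 := by
    ext i
    fin_cases i <;> rfl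
  rw [h, Equiv.Perm.Disjoint.cycleType_mul, (Equiv.Perm.isSwap_iff_cycleType.1 ⟨0, 1, by decide, rfl⟩),
    (Equiv.Perm.isSwap_iff_cycleType.1 ⟨2, 3, by decide, rfl⟩)]
  · rfl
  · rw [Equiv.Perm.disjoint_iff_disjoint_support]
    decide

theorem orderOf_c5 : orderOf c5 = 5 := by
  have : Fact (Nat.Prime 5) := ⟨by norm_num⟩
  exact orderOf_eq_prime c5_pow fun h => by
    have h2 : c5 0 = 0 := by rw [h]; rfl
    exact absurd h2 (by decide)

theorem orderOf_c7 : orderOf c7 = 7 := by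
  have : Fact (Nat.Prime 7) := ⟨by norm_num⟩
  exact orderOf_eq_prime c7_pow fun h => by
    have h2 : c7 0 = 0 := by rw [h]; rfl
    exact absurd h2 (by decide)

theorem cycleType_c5 : c5.cycleType = {5} := by
  have h : c5.IsCycle := by
    refine ⟨0, by decide, ?_⟩
    intro y hy
    have : ∀ y : Fin 7, c5 y ≠ y → ∃ k : Fin 5, (c5 ^ (k : ℕ)) 0 = y := by decide
    obtain ⟨k, hk⟩ := this y hy
    exact ⟨(k : ℕ), by simpa using hk⟩
  rw [h.cycleType, ← h.orderOf, orderOf_c5]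

theorem cycleType_c7 : c7.cycleType = {7} := by
  have h : c7.IsCycle := by
    refine ⟨0, by decide, ?_⟩
    intro y hy
    have : ∀ y : Fin 7, c7 y ≠ y → ∃ k : Fin 7, (c7 ^ (k : ℕ)) 0 = y := by decide
    obtain ⟨k, hk⟩ := this y hy
    exact ⟨(k : ℕ), by simpa using hk⟩
  rw [h.cycleType, ← h.orderOf, orderOf_c7]

/-- Centralizers in `A₇` of elements centralized by an odd permutation. -/
theorem two_mul_card (g : Equiv.Perm (Fin 7)) (hg : Equiv.Perm.sign g = 1) (s : Equiv.Perm (Fin 7))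
    (hs : Equiv.Perm.sign s = -1) (hsg : s * g = g * s) :
    2 * Nat.card (centralizer ({⟨g, Equiv.Perm.mem_alternatingGroup.2 hg⟩} : Set ↥(alternatingGroup (Fin 7)))) =
      Nat.card (centralizer ({g} : Set (Equiv.Perm (Fin 7)))) := by
  set C := centralizer ({g} : Set (Equiv.Perm (Fin 7))) with hC
  let φ : C →* ℤˣ := Equiv.Perm.sign.comp C.subtype
  have h1 : Nat.card φ.ker * φ.ker.index = Nat.card C := Subgroup.card_mul_index _
  have h2 : φ.ker.index = 2 := by
    rw [Subgroup.index_ker]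
    have hr : φ.range = ⊤ := by
      rw [MonoidHom.range_eq_top]
      intro u
      rcases Int.units_eq_one_or u with rfl | rfl
      · exact ⟨1, map_one φ⟩
      · exact ⟨⟨s, mem_centralizer_singleton_iff.2 hsg⟩, hs⟩
    rw [hr, Subgroup.card_top, Nat.card_eq_fintype_card]
    rfl
  have e : ↥(centralizer ({⟨g, Equiv.Perm.mem_alternatingGroup.2 hg⟩} : Set ↥(alternatingGroup (Fin 7)))) ≃ φ.ker :=
    { toFun := fun x => ⟨⟨x.1.1, mem_centralizer_singleton_iff.2
          (congrArg Subtype.val (mem_centralizer_singleton_iff.1 x.2))⟩,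
          Equiv.Perm.mem_alternatingGroup.1 x.1.2⟩
      invFun := fun x => ⟨⟨x.1.1, Equiv.Perm.mem_alternatingGroup.2 x.2⟩, mem_centralizer_singleton_iff.2
          (Subtype.ext (mem_centralizer_singleton_iff.1 x.1.2))⟩
      left_inv := fun _ => rfl
      right_inv := fun _ => rfl }
  rw [Nat.card_congr e, ← h1, h2, mul_comm]

abbrev A7 : Type := ↥(alternatingGroup (Fin 7))

theorem two : ∃ t : A7, t ^ 2 = 1 ∧ t ≠ 1 ∧ Nat.card (centralizer ({t} : Set A7)) = 24 := by
  refine ⟨⟨t2, Equiv.Perm.mem_alternatingGroup.2 sign_t2⟩, Subtype.ext t2_pow, ?_, ?_⟩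
  · intro h
    have h1 : t2 = 1 := congrArg Subtype.val h
    have h2 : t2 0 = 0 := by rw [h1]; rfl
    exact absurd h2 (by decide)
  · have h := two_mul_card t2 sign_t2 (Equiv.swap 0 1) (Equiv.Perm.sign_swap (by decide)) (by
      ext i
      fin_cases i <;> rfl)
    rw [Equiv.Perm.nat_card_centralizer, cycleType_t2] at h
    have h2 : (Fintype.card (Fin 7) - ({2, 2} : Multiset ℕ).sum).factorial * (({2, 2} : Multiset ℕ).prod *
        ∏ n ∈ ({2, 2} : Multiset ℕ).toFinset, (({2, 2} : Multiset ℕ).count n).factorial) = 48 := by decide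
    rw [mul_assoc, h2] at h
    exact Nat.eq_of_mul_eq_mul_left (by norm_num : 0 < 2) h

theorem five : ∃ c h : A7, c ^ 5 = 1 ∧ c ≠ 1 ∧ h * c * h⁻¹ = c ^ 2 ∧
    Nat.card (centralizer ({c} : Set A7)) = 5 := by
  refine ⟨⟨c5, Equiv.Perm.mem_alternatingGroup.2 sign_c5⟩, ⟨h5, Equiv.Perm.mem_alternatingGroup.2 sign_h5⟩,
    Subtype.ext c5_pow, ?_, Subtype.ext h5_conj, ?_⟩
  · intro h
    have h1 : c5 = 1 := congrArg Subtype.val h
    have h2 : c5 0 = 0 := by rw [h1]; rfl
    exact absurd h2 (by decide)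
  · have h := two_mul_card c5 sign_c5 (Equiv.swap 5 6) (Equiv.Perm.sign_swap (by decide)) (by
      ext i
      fin_cases i <;> rfl)
    rw [Equiv.Perm.nat_card_centralizer, cycleType_c5] at h
    have h2 : (Fintype.card (Fin 7) - ({5} : Multiset ℕ).sum).factorial * (({5} : Multiset ℕ).prod *
        ∏ n ∈ ({5} : Multiset ℕ).toFinset, (({5} : Multiset ℕ).count n).factorial) = 10 := by decide
    rw [mul_assoc, h2] at h
    exact Nat.eq_of_mul_eq_mul_left (by norm_num : 0 < 2) h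

theorem seven : ∃ c h : A7, c ^ 7 = 1 ∧ c ≠ 1 ∧ h * c * h⁻¹ = c ^ 2 ∧
    Nat.card (centralizer ({c} : Set A7)) = 7 := by
  refine ⟨⟨c7, Equiv.Perm.mem_alternatingGroup.2 sign_c7⟩, ⟨h7, Equiv.Perm.mem_alternatingGroup.2 sign_h7⟩,
    Subtype.ext c7_pow, ?_, Subtype.ext h7_conj, ?_⟩
  · intro h
    have h1 : c7 = 1 := congrArg Subtype.val h
    have h2 : c7 0 = 0 := by rw [h1]; rfl
    exact absurd h2 (by decide)
  · have h1 := Equiv.Perm.nat_card_centralizer c7
    rw [cycleType_c7, mul_assoc] at h1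
    have h2 : (Fintype.card (Fin 7) - ({7} : Multiset ℕ).sum).factorial * (({7} : Multiset ℕ).prod *
        ∏ n ∈ ({7} : Multiset ℕ).toFinset, (({7} : Multiset ℕ).count n).factorial) = 7 := by decide
    rw [h2] at h1
    refine le_antisymm ?_ ?_
    · refine le_trans ?_ h1.le
      refine Nat.card_le_card_of_injective (fun x => (⟨x.1.1, mem_centralizer_singleton_iff.2
        (congrArg Subtype.val (mem_centralizer_singleton_iff.1 x.2))⟩ :
        centralizer ({c7} : Set (Equiv.Perm (Fin 7))))) ?_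
      intro a b hab
      exact Subtype.ext (Subtype.ext (congrArg (fun z : centralizer ({c7} : Set (Equiv.Perm (Fin 7))) => z.1) hab))
    · set c : A7 := ⟨c7, Equiv.Perm.mem_alternatingGroup.2 sign_c7⟩ with hc
      have ho : orderOf c = 7 := (Subgroup.orderOf_coe c).symm.trans orderOf_c7
      have h3 : Nat.card (zpowers c) ≤ Nat.card (centralizer ({c} : Set A7)) := by
        refine Subgroup.card_le_of_le ?_
        rw [zpowers_le, mem_centralizer_singleton_iff]
      rw [Nat.card_zpowers, ho] at h3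
      exact h3

theorem card_A7 : Nat.card A7 = 2520 := by
  rw [Nat.card_eq_fintype_card]
  have h := two_mul_card_alternatingGroup (α := Fin 7)
  rw [Fintype.card_perm, Fintype.card_fin, show Nat.factorial 7 = 5040 from rfl] at h
  have h2 : Fintype.card (alternatingGroup (Fin 7)) = 2520 := by omega
  exact h2

end Cfsg.Agent.H932.PS11
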