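import Mathlib

/-!
# The arithmetic of the degrees of `3.A₇` over a faithful character of the centre (helper932, S4844 PS-11b)
-/

set_option autoImplicit false

namespace Cfsg.Agent.H932.PS11

/-- The value at an element of order five, as a function of the degree `3 e`. -/
def F5 : ℕ → ℤ
  | 1 => -2
  | 2 => 1
  | 3 => -1
  | 5 => 0
  | 7 => 1
  | 10 => 0
  | 14 => 2
  | _ => 0

/-- Lower bound of the square of the absolute value at an element of order seven. -/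
def W7 : ℕ → ℕ
  | 1 => 2
  | 2 => 1
  | 3 => 4
  | 5 => 1
  | 7 => 0
  | 10 => 4
  | 14 => 0
  | 15 => 2
  | _ => 0

theorem row {e : ℕ} {s f : ℤ} {N : ℕ} (h4 : ¬ 4 ∣ e) (hs4 : (4 : ℤ) ∣ 3 * e - s) (h35 : (e : ℤ) ∣ 35 * s)
    (h5 : (5 : ℤ) ∣ 3 * e - f) (h7 : (7 : ℤ) ∣ 9 * (e : ℤ) ^ 2 - N) (he : e ^ 2 ≤ 280) (hs : s ^ 2 ≤ 24)
    (hf : f ^ 2 ≤ 5) : e ∈ ({1, 2, 3, 5, 7, 10, 14, 15} : Finset ℕ) ∧ f = F5 e ∧ W7 e ≤ N ∧ |s| ≤ 3 ∧
      (e = 15 → |s| = 3) := by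
  have he16 : e ≤ 16 := by nlinarith
  have hs1 : -4 ≤ s := by nlinarith
  have hs2 : s ≤ 4 := by nlinarith
  have hf1 : -2 ≤ f := by nlinarith
  have hf2 : f ≤ 2 := by nlinarith
  obtain ⟨k, hk⟩ := h35
  have habs : |s| ≤ 3 := by
    rw [abs_le]
    constructor <;> omega
  rw [abs_le] at habs
  obtain ⟨a1, a2⟩ := habs
  have hs0 : s ≠ 0 := by
    rintro rfl
    omega
  interval_cases e
  · omega
  · exact ⟨by decide, by simp only [F5]; omega, by simp only [W7]; omega, by rw [abs_le]; omega, by omega⟩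
  · exact ⟨by decide, by simp only [F5]; omega, by simp only [W7]; omega, by rw [abs_le]; omega, by omega⟩
  · exact ⟨by decide, by simp only [F5]; omega, by simp only [W7]; omega, by rw [abs_le]; omega, by omega⟩
  · omega
  · exact ⟨by decide, by simp only [F5]; omega, by simp only [W7]; omega, by rw [abs_le]; omega, by omega⟩
  · exfalso; omega
  · exact ⟨by decide, by simp only [F5]; omega, by simp only [W7]; omega, by rw [abs_le]; omega, by omega⟩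
  · omega
  · exfalso; omega
  · exact ⟨by decide, by simp only [F5]; omega, by simp only [W7]; omega, by rw [abs_le]; omega, by omega⟩
  · exfalso; omega
  · omega
  · exfalso; omega
  · exact ⟨by decide, by simp only [F5]; omega, by simp only [W7]; omega, by rw [abs_le]; omega, by omega⟩
  · refine ⟨by decide, by simp only [F5]; omega, by simp only [W7]; omega, by rw [abs_le]; omega, fun _ => ?_⟩
    have h3 : s = 3 ∨ s = -3 := by omega
    rcases h3 with rfl | rfl <;> rfl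
  · omega

theorem solve {m1 m2 m3 m5 m7 m10 m14 m15 : ℕ}
    (k1 : 280 = (m1 : ℤ) + (m2 * 4 + (m3 * 9 + (m5 * 25 + (m7 * 49 + (m10 * 100 + (m14 * 196 + m15 * 225)))))))
    (k2 : 5 = (m1 : ℤ) * 4 + (m2 + (m3 + (m7 + m14 * 4))))
    (k3 : 0 = -((m1 : ℤ) * 2) + (m2 * 2 + (-(m3 * 3) + (m7 * 7 + m14 * 28))))
    (k4 : (m1 : ℤ) * 2 + (m2 + (m3 * 4 + (m5 + (m10 * 4 + m15 * 2)))) ≤ 7) :
    m15 = 1 ∧ (m1 : ℤ) + m2 * 2 + m3 * 3 + m5 * 5 + m7 * 7 + m10 * 10 + m14 * 14 = 13 := by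
  have h14 : m14 ≤ 1 := by omega
  have h15 : m15 ≤ 1 := by omega
  have h10 : m10 ≤ 1 := by omega
  have h1 : m1 ≤ 1 := by omega
  have h3 : m3 ≤ 1 := by omega
  have h2 : m2 ≤ 5 := by omega
  interval_cases m14 <;> interval_cases m15 <;> interval_cases m10 <;> interval_cases m1 <;>
    interval_cases m3 <;> interval_cases m2 <;> omega

theorem arith {ι : Type*} (I : Finset ι) (e : ι → ℕ) (s f : ι → ℤ) (N : ι → ℕ)
    (h4 : ∀ i ∈ I, ¬ 4 ∣ e i) (hs4 : ∀ i ∈ I, (4 : ℤ) ∣ 3 * e i - s i) (h35 : ∀ i ∈ I, (e i : ℤ) ∣ 35 * s i)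
    (h5 : ∀ i ∈ I, (5 : ℤ) ∣ 3 * e i - f i) (h7 : ∀ i ∈ I, (7 : ℤ) ∣ 9 * (e i : ℤ) ^ 2 - N i)
    (hE : ∑ i ∈ I, e i ^ 2 = 280) (hS : ∑ i ∈ I, s i ^ 2 = 24) (hSE : ∑ i ∈ I, s i * e i = 0)
    (hF : ∑ i ∈ I, f i ^ 2 = 5) (hFE : ∑ i ∈ I, f i * e i = 0) (hN : ∑ i ∈ I, N i = 7) : False := by
  classical
  have hrow : ∀ i ∈ I, e i ∈ ({1, 2, 3, 5, 7, 10, 14, 15} : Finset ℕ) ∧ f i = F5 (e i) ∧ W7 (e i) ≤ N i ∧
      |s i| ≤ 3 ∧ (e i = 15 → |s i| = 3) := by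
    intro i hi
    refine row (h4 i hi) (hs4 i hi) (h35 i hi) (h5 i hi) (h7 i hi) ?_ ?_ ?_
    · rw [← hE]; exact Finset.single_le_sum (f := fun i => e i ^ 2) (fun _ _ => Nat.zero_le _) hi
    · rw [← hS]; exact Finset.single_le_sum (f := fun i => s i ^ 2) (fun _ _ => sq_nonneg _) hi
    · rw [← hF]; exact Finset.single_le_sum (f := fun i => f i ^ 2) (fun _ _ => sq_nonneg _) hi
  obtain ⟨m, hm⟩ : ∃ m : ℕ → ℕ, m = fun j => (I.filter fun i => e i = j).card := ⟨_, rfl⟩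
  have key : ∀ φ : ℕ → ℤ, ∑ i ∈ I, φ (e i) =
      ∑ j ∈ ({1, 2, 3, 5, 7, 10, 14, 15} : Finset ℕ), (m j : ℤ) * φ j := by
    intro φ
    rw [← Finset.sum_fiberwise_of_maps_to (g := e) (t := ({1, 2, 3, 5, 7, 10, 14, 15} : Finset ℕ))
      (fun i hi => (hrow i hi).1)]
    refine Finset.sum_congr rfl fun j _ => ?_
    rw [Finset.sum_congr rfl (g := fun _ => φ j) fun i hi => by rw [(Finset.mem_filter.1 hi).2], Finset.sum_const,
      nsmul_eq_mul, hm]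
  have k1 := key fun j => (j : ℤ) ^ 2
  have k2 := key fun j => (F5 j) ^ 2
  have k3 := key fun j => F5 j * j
  have k4 := key fun j => (W7 j : ℤ)
  have k5 := key fun j => (j : ℤ)
  have e1 : ∑ i ∈ I, ((e i : ℤ)) ^ 2 = 280 := by exact_mod_cast hE
  have e2 : ∑ i ∈ I, (F5 (e i)) ^ 2 = 5 := by
    rw [← hF]
    exact Finset.sum_congr rfl fun i hi => by rw [(hrow i hi).2.1]
  have e3 : ∑ i ∈ I, F5 (e i) * (e i : ℤ) = 0 := by
    rw [← hFE]
    exact Finset.sum_congr rfl fun i hi => by rw [(hrow i hi).2.1]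
  have e4 : ∑ i ∈ I, (W7 (e i) : ℤ) ≤ 7 := by
    have : ∑ i ∈ I, W7 (e i) ≤ 7 := by
      rw [← hN]
      exact Finset.sum_le_sum fun i hi => (hrow i hi).2.2.1
    exact_mod_cast this
  have k1' := e1.symm.trans k1
  have k2' := e2.symm.trans k2
  have k3' := e3.symm.trans k3
  have k4' := k4.symm.le.trans e4
  clear k1 k2 k3 k4
  norm_num [F5, W7] at k1' k2' k3' k4' k5
  have hres : m 15 = 1 ∧ (m 1 : ℤ) + m 2 * 2 + m 3 * 3 + m 5 * 5 + m 7 * 7 + m 10 * 10 + m 14 * 14 = 13 := by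
    exact solve k1' k2' k3' k4'
  obtain ⟨h15, hsum⟩ := hres
  have hpos : 0 < (I.filter fun i => e i = 15).card := by
    have : m 15 = (I.filter fun i => e i = 15).card := by rw [hm]
    omega
  obtain ⟨i0, hi0⟩ := Finset.card_pos.1 hpos
  rw [Finset.mem_filter] at hi0
  obtain ⟨hi0, hi1⟩ := hi0
  have hs0 := (hrow i0 hi0).2.2.2.2 hi1
  rw [← Finset.add_sum_erase I _ hi0, hi1] at hSE
  have h6 : |∑ i ∈ I.erase i0, s i * (e i : ℤ)| ≤ ∑ i ∈ I.erase i0, 3 * (e i : ℤ) := by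
    refine le_trans (Finset.abs_sum_le_sum_abs _ _) (Finset.sum_le_sum fun i hi => ?_)
    rw [abs_mul, Nat.abs_cast]
    exact mul_le_mul_of_nonneg_right (hrow i (Finset.mem_of_mem_erase hi)).2.2.2.1 (Nat.cast_nonneg _)
  have h7' : ∑ i ∈ I.erase i0, 3 * (e i : ℤ) = 39 := by
    have h8 := Finset.add_sum_erase I (fun i => (e i : ℤ)) hi0
    rw [← Finset.mul_sum]
    simp only [hi1] at h8
    push_cast at h8
    rw [k5] at h8
    have h15' : (m 15 : ℤ) = 1 := by exact_mod_cast h15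
    linarith
  rw [h7'] at h6
  have h8 : ∑ i ∈ I.erase i0, s i * (e i : ℤ) = - (s i0 * 15) := by
    push_cast at hSE
    linarith
  rw [h8, abs_neg, abs_mul, hs0] at h6
  norm_num at h6

end Cfsg.Agent.H932.PS11
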