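import Cfsg.Agent.H932.PS11.Three
import Cfsg.Agent.OddOrderLocal.FreeAction

/-!
# Central extensions of `A₇` by groups of arbitrary order (helper932, S4844 PS-11b)

`central_of_two`: PS-11 from the case `|V| = 2`.
-/

set_option autoImplicit false
set_option linter.unusedSectionVars false

open Cfsg Subgroup

namespace Cfsg.Agent.H932.PS11

universe u

/-- The kernel has order 2 or 3 if it has prime order. -/
theorem prime_le {K : Type u} [Group K] [Finite K] (hK : commutator K = ⊤) (f : K →* A7)
    (hf : Function.Surjective f) (hc : f.ker ≤ center K) {r : ℕ} (hr : r.Prime) (hcard : Nat.card f.ker = r) :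
    r = 2 ∨ r = 3 := by
  by_contra hcon
  push Not at hcon
  obtain ⟨h2, h3⟩ := hcon
  have : Fact r.Prime := ⟨hr⟩
  have hKc : Nat.card K = r * 2520 := by
    have h2 := Subgroup.card_mul_index f.ker
    rw [Subgroup.index_ker, MonoidHom.range_eq_top.2 hf, Subgroup.card_top, card_A7, hcard] at h2
    exact h2.symm
  obtain ⟨z, hzk, hz1⟩ : ∃ z ∈ f.ker, z ≠ 1 := by
    by_contra hcon
    push Not at hcon
    have h1 : f.ker = ⊥ := (Subgroup.eq_bot_iff_forall _).2 hcon
    rw [h1, Subgroup.card_bot] at hcard
    exact hr.one_lt.ne hcard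
  have hz : z ^ r = 1 := pow_r_eq_one hcard hzk
  obtain ⟨P, hP⟩ : ∃ P : Sylow r K, zpowers z ≤ P := by
    have hp : IsPGroup r (zpowers z) := by
      refine IsPGroup.of_card (n := 1) ?_
      rw [Nat.card_zpowers, pow_one, orderOf_eq_prime hz hz1]
    exact hp.exists_le_sylow
  have hcardP := P.card_eq_multiplicity
  have hfac : (Nat.card K).factorization r ≤ 2 := by
    rw [hKc, Nat.factorization_mul hr.ne_zero (by norm_num), Finsupp.add_apply, hr.factorization_self]
    have h1 : Nat.factorization 2520 r ≤ 1 := by
      by_contra hlt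
      push Not at hlt
      have h4 : r ^ 2 ∣ 2520 := (hr.pow_dvd_iff_le_factorization (by norm_num)).2 hlt
      have h5 : r ∣ 2520 := (dvd_pow_self r two_ne_zero).trans h4
      have h6 : r ∣ 2 ^ 3 * 3 ^ 2 * 5 * 7 := by norm_num; exact h5
      rcases (Nat.Prime.dvd_mul hr).1 h6 with h | h
      · rcases (Nat.Prime.dvd_mul hr).1 h with h | h
        · rcases (Nat.Prime.dvd_mul hr).1 h with h | h
          · exact h2 ((Nat.prime_dvd_prime_iff_eq hr (by norm_num)).1 (hr.dvd_of_dvd_pow h))
          · exact h3 ((Nat.prime_dvd_prime_iff_eq hr (by norm_num)).1 (hr.dvd_of_dvd_pow h))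
        · have := (Nat.prime_dvd_prime_iff_eq hr (by norm_num)).1 h
          subst this
          norm_num at h4
      · have := (Nat.prime_dvd_prime_iff_eq hr (by norm_num)).1 h
        subst this
        norm_num at h4
    omega
  have hcomm : IsMulCommutative (P : Subgroup K) := by
    obtain ⟨k, hk⟩ : ∃ k, k = (Nat.card K).factorization r := ⟨_, rfl⟩
    rw [← hk] at hcardP hfac
    interval_cases k
    · rw [pow_zero] at hcardP
      have := (Nat.card_eq_one_iff_unique.1 hcardP).1
      exact ⟨⟨fun a b => Subsingleton.elim _ _⟩⟩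
    · rw [pow_one] at hcardP
      have := isCyclic_of_prime_card hcardP
      exact IsCyclic.isMulCommutative
    · exact IsPGroup.isMulCommutative_of_card_eq_prime_sq hcardP
  refine hz1 (OddOrderLocal.FreeAction.eq_one_of_mem_sylow_center_commutator P hcomm (hP (mem_zpowers z)) (hc hzk) ?_)
  rw [hK]
  trivial

/-- PS-11 from the case of a kernel of order two. -/
theorem central_of_two (h2 : ∀ (K : Type u) [Group K] [Finite K], commutator K = ⊤ → ∀ f : K →* A7,
      Function.Surjective f → f.ker ≤ center K → Nat.card f.ker = 2 → H33.IM 4 K) (n : ℕ) :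
    ∀ (K : Type u) [Group K] [Finite K], Nat.card K ≤ n → commutator K = ⊤ → ∀ f : K →* A7,
      Function.Surjective f → f.ker ≤ center K → f.ker ≠ ⊥ → H33.IM 4 K := by
  induction n with
  | zero =>
    intro K _ _ hn
    exact absurd hn (by have := Nat.card_pos (α := K); omega)
  | succ n ih =>
    intro K _ _ hn hK f hf hc hne
    obtain ⟨r, hr, hrd⟩ := Nat.exists_prime_and_dvd (n := Nat.card f.ker) (by
      rw [Ne, Subgroup.card_eq_one]; exact hne)
    have : Fact r.Prime := ⟨hr⟩
    obtain ⟨x, hx⟩ := exists_prime_orderOf_dvd_card' r hrd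
    by_cases htop : zpowers (x : K) = f.ker
    · have hcard : Nat.card f.ker = r := by
        rw [← htop, Nat.card_zpowers, Subgroup.orderOf_coe, hx]
      rcases prime_le hK f hf hc hr hcard with rfl | rfl
      · exact h2 K hK f hf hc hcard
      · exact three_hom hK f hf hc hcard
    · have hxk : zpowers (x : K) ≤ f.ker := by
        rw [zpowers_le]
        exact x.2
      have hW : (zpowers (x : K)).Normal := by
        constructor
        intro y hy g
        rw [Subgroup.mem_center_iff.1 (hc (hxk hy)) g, mul_inv_cancel_right]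
        exact hy
      refine H33.IM.of_quotient (zpowers (x : K)) ?_
      refine ih (K ⧸ zpowers (x : K)) ?_ ?_ (QuotientGroup.lift _ f hxk) ?_ ?_ ?_
      · have h1 := Subgroup.card_eq_card_quotient_mul_card_subgroup (zpowers (x : K))
        rw [Nat.card_zpowers, Subgroup.orderOf_coe, hx] at h1
        have h3 : 0 < Nat.card (K ⧸ zpowers (x : K)) := Nat.card_pos
        have h4 := hr.two_le
        nlinarith
      · have h1 := map_commutator (⊤ : Subgroup K) ⊤ (QuotientGroup.mk' (zpowers (x : K)))
        rw [← _root_.commutator_def, hK] at h1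
        rw [_root_.commutator_def, ← MonoidHom.range_eq_top.2 (QuotientGroup.mk'_surjective (zpowers (x : K))),
          MonoidHom.range_eq_map]
        exact h1.symm
      · intro q
        obtain ⟨g, rfl⟩ := hf q
        exact ⟨(g : K ⧸ zpowers (x : K)), rfl⟩
      · intro y hy
        obtain ⟨g, rfl⟩ := QuotientGroup.mk_surjective y
        have hg : g ∈ f.ker := hy
        rw [Subgroup.mem_center_iff]
        intro y
        obtain ⟨k, rfl⟩ := QuotientGroup.mk_surjective y
        rw [← QuotientGroup.mk_mul, ← QuotientGroup.mk_mul, Subgroup.mem_center_iff.1 (hc hg) k]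
      · intro hbot
        apply htop
        refine le_antisymm hxk fun g hg => ?_
        have h1 : (g : K ⧸ zpowers (x : K)) ∈ (QuotientGroup.lift (zpowers (x : K)) f hxk).ker := hg
        rw [hbot, Subgroup.mem_bot] at h1
        exact (QuotientGroup.eq_one_iff g).1 h1

/-- PS-11 in the form of the plan, from the case of a kernel of order two. -/
theorem seven_central_of_two (h2 : ∀ (K : Type u) [Group K] [Finite K], commutator K = ⊤ → ∀ f : K →* A7,
      Function.Surjective f → f.ker ≤ center K → Nat.card f.ker = 2 → H33.IM 4 K) {K : Type u} [Group K] [Finite K]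
    (hK : commutator K = ⊤) {V : Subgroup K} (hV : V ≤ center K) (hV1 : V ≠ ⊥) [V.Normal]
    (e : Nonempty (K ⧸ V ≃* alternatingGroup (Fin 7))) : H33.IM 4 K := by
  obtain ⟨e⟩ := e
  obtain ⟨f, hfd⟩ : ∃ f : K →* A7, f = e.toMonoidHom.comp (QuotientGroup.mk' V) := ⟨_, rfl⟩
  have hker : f.ker = V := by
    ext g
    rw [MonoidHom.mem_ker, hfd, MonoidHom.comp_apply]
    constructor
    · intro h
      have h1 : QuotientGroup.mk' V g = 1 := e.injective (h.trans (map_one e).symm)
      exact (QuotientGroup.eq_one_iff g).1 h1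
    · intro h
      have h1 : QuotientGroup.mk' V g = 1 := (QuotientGroup.eq_one_iff g).2 h
      rw [h1, map_one]
  refine central_of_two h2 (Nat.card K) K le_rfl hK f ?_ (by rw [hker]; exact hV) (by rw [hker]; exact hV1)
  rw [hfd]
  exact e.surjective.comp (QuotientGroup.mk'_surjective V)

end Cfsg.Agent.H932.PS11
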